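import Cfsg.Agent.PGroup.ExtraspecialTwo

/-!
The number of solutions of `x ^ 2 = 1` in an extraspecial `2`-group.
-/

set_option linter.style.haveILetI false

open scoped commutatorElement
open Subgroup

namespace Cfsg.Agent.PGroup

universe u

open Cfsg.Agent.Transfer

/-- The number of elements squaring to the identity. -/
noncomputable def invCount (E : Type*) [Group E] : ℕ := Nat.card {g : E // g ^ 2 = 1}

theorem invCount_of_le_center {E : Type*} [Group E] [Finite E] (hE : Cfsg.IsExtraspecial 2 E)
    {C : Subgroup E} (hC : C = center E) : invCount C = 2 := by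
  subst hC
  rw [invCount, Nat.card_congr (Equiv.subtypeUnivEquiv fun g => Subtype.ext
    (by simpa using (center_elemAb hE).2 g g.2)), hE.2]

section Block

variable {E : Type*} [Group E] [Finite E] {x y z : E}

/-- Coset representatives of the centralizer of a block. -/
def blockRep (x y : E) (q : Bool × Bool) : E := cond q.1 x 1 * cond q.2 y 1

theorem invCount_block_eq_sum (hE : Cfsg.IsExtraspecial 2 E) (hB : IsBlock 2 x y z) :
    invCount E = ∑ q : Bool × Bool, Nat.card {c : centralizer (blockGroup hE hB : Set E) //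
      blockRep x y q ^ 2 * (c : E) ^ 2 = 1} := by
  classical
  haveI : Fact (Nat.Prime 2) := ⟨Nat.prime_two⟩
  haveI : Fintype E := Fintype.ofFinite E
  set C := centralizer (blockGroup hE hB : Set E) with hCdef
  have hcx : ∀ c : C, Commute (c : E) x := fun c =>
    (mem_centralizer_iff.mp c.2 x (mem_blockGroup_x hE hB)).symm
  have hcy : ∀ c : C, Commute (c : E) y := fun c =>
    (mem_centralizer_iff.mp c.2 y (mem_blockGroup_y hE hB)).symm
  have hxy : ¬ x * y = y * x := fun h => by
    have h1 : ⁅x, y⁆ = 1 := commutatorElement_eq_one_iff_mul_comm.mpr h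
    rw [hB.comm] at h1
    have := hB.ord
    rw [h1, orderOf_one] at this
    omega
  have hx' : ∀ (q : Bool × Bool) (c : C),
      (Commute (blockRep x y q * (c : E)) x ↔ q.2 = false) := by
    intro q c
    have h1 : Commute (blockRep x y q * (c : E)) x ↔ Commute (blockRep x y q) x :=
      ⟨fun h => by simpa [mul_assoc] using h.mul_left (hcx c).inv_left,
        fun h => h.mul_left (hcx c)⟩
    rw [h1]
    rcases q with ⟨a, b⟩
    cases a <;> cases b <;> simp only [blockRep, cond_true, cond_false, one_mul, mul_one]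
    · simp
    · simp only [Bool.true_eq_false, iff_false]
      exact fun h => hxy h.eq.symm
    · simp
    · simp only [Bool.true_eq_false, iff_false]
      intro h
      have h2 := h.eq
      rw [mul_assoc] at h2
      exact hxy (mul_left_cancel h2).symm
  have hy' : ∀ (q : Bool × Bool) (c : C),
      (Commute (blockRep x y q * (c : E)) y ↔ q.1 = false) := by
    intro q c
    have h1 : Commute (blockRep x y q * (c : E)) y ↔ Commute (blockRep x y q) y :=
      ⟨fun h => by simpa [mul_assoc] using h.mul_left (hcy c).inv_left,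
        fun h => h.mul_left (hcy c)⟩
    rw [h1]
    rcases q with ⟨a, b⟩
    cases a <;> cases b <;> simp only [blockRep, cond_true, cond_false, one_mul, mul_one]
    · simp
    · simp
    · simp only [Bool.true_eq_false, iff_false]
      exact fun h => hxy h.eq
    · simp only [Bool.true_eq_false, iff_false]
      intro h
      have h2 := h.eq
      rw [← mul_assoc] at h2
      exact hxy (mul_right_cancel h2)
  let F : (Bool × Bool) × C → E := fun r => blockRep x y r.1 * (r.2 : E)
  have hinj : Function.Injective F := by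
    rintro ⟨q, c⟩ ⟨q', c'⟩ h
    have h2 : q.2 = false ↔ q'.2 = false := by
      rw [← hx' q c, ← hx' q' c']; exact iff_of_eq (congrArg (Commute · x) h)
    have h1 : q.1 = false ↔ q'.1 = false := by
      rw [← hy' q c, ← hy' q' c']; exact iff_of_eq (congrArg (Commute · y) h)
    obtain ⟨a, b⟩ := q
    obtain ⟨a', b'⟩ := q'
    obtain rfl : a = a' := by cases a <;> cases a' <;> simp_all
    obtain rfl : b = b' := by cases b <;> cases b' <;> simp_all
    have : (c : E) = c' := mul_left_cancel h
    rw [Subtype.ext this]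
  have hbij : Function.Bijective F := (Nat.bijective_iff_injective_and_card F).mpr ⟨hinj, by
    rw [Nat.card_prod, ← card_centralizer_blockGroup hE hB, ← hCdef]
    simp [Nat.card_eq_fintype_card, mul_comm]⟩
  rw [invCount, ← Nat.card_congr ((Equiv.ofBijective F hbij).subtypeEquiv
    (p := fun r => blockRep x y r.1 ^ 2 * (r.2 : E) ^ 2 = 1) fun r => by
      have hc : Commute (blockRep x y r.1) (r.2 : E) := by
        obtain ⟨⟨a, b⟩, c⟩ := r
        cases a <;> cases b <;>
          simp only [blockRep, cond_true, cond_false, one_mul, mul_one]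
        · exact Commute.one_left _
        · exact (hcy c).symm
        · exact (hcx c).symm
        · exact (hcx c).symm.mul_left (hcy c).symm
      show _ ↔ F r ^ 2 = 1
      rw [show F r ^ 2 = blockRep x y r.1 ^ 2 * (r.2 : E) ^ 2 from hc.mul_pow 2]),
    Nat.card_congr (Equiv.subtypeProdEquivSigmaSubtype
      fun (q : Bool × Bool) (c : C) => blockRep x y q ^ 2 * (c : E) ^ 2 = 1), Nat.card_sigma]

theorem sq_cases (hE : Cfsg.IsExtraspecial 2 E) (hB : IsBlock 2 x y z) (g : E) :
    g ^ 2 = 1 ∨ g ^ 2 = z := by
  haveI : Fact (Nat.Prime 2) := ⟨Nat.prime_two⟩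
  have hzz : z ^ (2 : ℤ) = 1 := (zpow_eq_one_iff_dvd hE hB 2).mpr (by norm_num)
  have hg := special_pow_mem_center hE.1 g
  rw [block_center hE hB] at hg
  obtain ⟨k, hk⟩ := hg
  rw [← hk]
  rcases Int.even_or_odd' k with ⟨m, rfl | rfl⟩
  · left
    show z ^ (2 * m) = 1
    rw [zpow_mul, hzz, one_zpow]
  · right
    show z ^ (2 * m + 1) = z
    rw [zpow_add, zpow_mul, hzz, one_zpow, one_mul, zpow_one]

theorem invCount_block (hE : Cfsg.IsExtraspecial 2 E) (hB : IsBlock 2 x y z) :
    (x ^ 2 = z ^ (0 : ℤ) → y ^ 2 = z ^ (0 : ℤ) →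
      invCount E = Nat.card (centralizer (blockGroup hE hB : Set E)) +
        2 * invCount (centralizer (blockGroup hE hB : Set E))) ∧
    (x ^ 2 = z ^ (1 : ℤ) → y ^ 2 = z ^ (1 : ℤ) →
      centralizer (blockGroup hE hB : Set E) = center E → invCount E = 2) := by
  classical
  haveI : Fact (Nat.Prime 2) := ⟨Nat.prime_two⟩
  haveI : Fintype E := Fintype.ofFinite E
  have hz1 : z ≠ 1 := fun h => by
    have := hB.ord
    rw [h, orderOf_one] at this
    omega
  have hzz : z * z = 1 := by rw [← sq, ← hB.ord, pow_orderOf_eq_one]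
  have hxy : (x * y) ^ 2 = x ^ 2 * y ^ 2 * z := by
    have hyx : ⁅y, x⁆ = z := by
      rw [← commutatorElement_inv, hB.comm]
      exact inv_eq_of_mul_eq_one_right hzz
    rw [mul_pow_of_commutatorElement (by rw [hyx]; exact hB.mem), hyx, Nat.choose_self, pow_one]
  have hA : Nat.card {c : centralizer (blockGroup hE hB : Set E) // (c : E) ^ 2 = 1} =
      invCount (centralizer (blockGroup hE hB : Set E)) :=
    Nat.card_congr (Equiv.subtypeEquivRight fun c => by
      rw [← Subtype.coe_inj]; simp)
  have hB' : Nat.card {c : centralizer (blockGroup hE hB : Set E) // z * (c : E) ^ 2 = 1} +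
      invCount (centralizer (blockGroup hE hB : Set E)) =
      Nat.card (centralizer (blockGroup hE hB : Set E)) := by
    rw [← hA, Nat.card_congr (Equiv.subtypeEquivRight (q := fun c :
        centralizer (blockGroup hE hB : Set E) => ¬ (c : E) ^ 2 = 1) fun c => ?_), add_comm,
      ← Nat.card_sum, Nat.card_congr (Equiv.sumCompl _)]
    rcases sq_cases hE hB (c : E) with h | h <;> rw [h]
    · simp [hz1]
    · exact iff_of_true hzz hz1
  refine ⟨fun hx hy => ?_, fun hx hy hC => ?_⟩
  · rw [zpow_zero] at hx hy
    rw [invCount_block_eq_sum hE hB, Fintype.sum_prod_type, Fintype.sum_bool, Fintype.sum_bool,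
      Fintype.sum_bool]
    simp only [blockRep, cond_true, cond_false, one_mul, mul_one, one_pow, hx, hy, hxy, hA]
    omega
  · rw [zpow_one] at hx hy
    have hc2 : invCount (centralizer (blockGroup hE hB : Set E)) = 2 :=
      invCount_of_le_center hE hC
    have hcc : Nat.card (centralizer (blockGroup hE hB : Set E)) = 2 := by rw [hC, hE.2]
    rw [invCount_block_eq_sum hE hB, Fintype.sum_prod_type, Fintype.sum_bool, Fintype.sum_bool,
      Fintype.sum_bool]
    simp only [blockRep, cond_true, cond_false, one_mul, mul_one, one_pow, hx, hy, hxy, hzz, hA]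
    omega

end Block

/-- An extraspecial `2`-group has `2 ^ (2m) ± 2 ^ m` solutions of `x ^ 2 = 1`, by type. -/
theorem invCount_eq : ∀ (N : ℕ) (E : Type u) [Group E] [Finite E],
    Cfsg.IsExtraspecial 2 E → Nat.card E = N →
    ∃ m, 1 ≤ m ∧ Nat.card E = 2 ^ (2 * m + 1) ∧
      (IsPlusTwo E → invCount E = 2 ^ (2 * m) + 2 ^ m) ∧
      (¬ IsPlusTwo E → invCount E = 2 ^ (2 * m) - 2 ^ m) := by
  haveI : Fact (Nat.Prime 2) := ⟨Nat.prime_two⟩
  intro N
  induction N using Nat.strong_induction_on with
  | _ N ih =>
    intro E _ _ hE hN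
    have step : ∀ (x y z : E) (hB : IsBlock 2 x y z), x ^ 2 = z ^ (0 : ℤ) → y ^ 2 = z ^ (0 : ℤ) →
        centralizer (blockGroup hE hB : Set E) ≠ center E →
        (IsPlusTwo (centralizer (blockGroup hE hB : Set E)) ↔ IsPlusTwo E) →
        ∃ m, 1 ≤ m ∧ Nat.card E = 2 ^ (2 * m + 1) ∧
          (IsPlusTwo E → invCount E = 2 ^ (2 * m) + 2 ^ m) ∧
          (¬ IsPlusTwo E → invCount E = 2 ^ (2 * m) - 2 ^ m) := by
      intro x y z hB hx hy hC ht
      have hlt : Nat.card (centralizer (blockGroup hE hB : Set E)) < N := by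
        rw [← hN, ← card_centralizer_blockGroup hE hB]
        exact lt_mul_of_one_lt_right Nat.card_pos (by norm_num)
      obtain ⟨m, hm, hc, hp, hn⟩ :=
        ih _ hlt _ (blockGroup_centralizer_extraspecial hE hB hC) rfl
      have hcount := (invCount_block hE hB).1 hx hy
      have e1 : 2 ^ (2 * (m + 1)) = 4 * 2 ^ (2 * m) := by ring
      have e2 : 2 ^ (m + 1) = 2 * 2 ^ m := by ring
      have e3 : 2 ^ (2 * m + 1) = 2 * 2 ^ (2 * m) := by ring
      have e4 : 2 ^ m ≤ 2 ^ (2 * m) := Nat.pow_le_pow_right (by norm_num) (by omega)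
      refine ⟨m + 1, by omega, ?_, fun h => ?_, fun h => ?_⟩
      · rw [← card_centralizer_blockGroup hE hB, hc]; ring
      · rw [hcount, hp (ht.mpr h), hc]; omega
      · rw [hcount, hn (fun h' => h (ht.mp h')), hc]; omega
    have base : ∀ (x y z : E) (hB : IsBlock 2 x y z),
        centralizer (blockGroup hE hB : Set E) = center E → Nat.card E = 2 ^ (2 * 1 + 1) := by
      intro x y z hB hC
      rw [← card_centralizer_blockGroup hE hB, hC, hE.2]
      norm_num
    by_cases hplus : IsPlusTwo E
    · obtain ⟨A, hA, hA'⟩ := hplus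
      obtain ⟨x, hx, hxc⟩ := SetLike.not_le_iff_exists.mp (not_le_center_of_plus hE hA')
      obtain ⟨y, z, hB, px, py⟩ := exists_dihedral_block hE hxc (hA.2 _ hx)
      by_cases hC : centralizer (blockGroup hE hB : Set E) = center E
      · refine ⟨1, le_rfl, base x y z hB hC, fun _ => ?_, fun h => absurd ⟨A, hA, hA'⟩ h⟩
        rw [(invCount_block hE hB).1 px py, invCount_of_le_center hE hC, hC, hE.2]
        norm_num
      · refine step x y z hB px py hC (iff_of_true ?_ ⟨A, hA, hA'⟩)
        obtain ⟨B, hB', hle⟩ := exists_elemAb_descend hE hB hA hx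
        refine ⟨B, hB', ?_⟩
        have := hA'.trans (Nat.pow_le_pow_left hle 2)
        rw [← card_centralizer_blockGroup hE hB, mul_pow] at this
        omega
    · obtain ⟨x, y, z, hB, d⟩ := exists_two_block hE
      rcases d with ⟨px, py⟩ | ⟨px, py, hC⟩
      · refine step x y z hB px py (fun h => hplus (isPlusTwo_of_block hE hB px (Or.inl h)))
          (iff_of_false (fun h => hplus (isPlusTwo_of_block hE hB px (Or.inr h))) hplus)
      · refine ⟨1, le_rfl, base x y z hB hC, fun h => absurd h hplus, fun _ => ?_⟩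
        rw [(invCount_block hE hB).2 px py hC]
        norm_num

end Cfsg.Agent.PGroup
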