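import Cfsg.Agent.Transfer.Extraspecial

/-!
Elementary abelian subgroups of extraspecial `2`-groups and the classification by rank.
-/

set_option linter.style.haveILetI false

open scoped commutatorElement
open Subgroup

namespace Cfsg.Agent.PGroup

universe u v

open Cfsg.Agent.Transfer

variable {E : Type*} [Group E] [Finite E]

/-- A non-central involution lies in a dihedral block. -/
theorem exists_dihedral_block (hE : Cfsg.IsExtraspecial 2 E) {s : E} (hs : s ∉ center E)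
    (hs2 : s ^ 2 = 1) : ∃ t z : E, IsBlock 2 s t z ∧ s ^ 2 = z ^ (0 : ℤ) ∧ t ^ 2 = z ^ (0 : ℤ) := by
  haveI : Fact (Nat.Prime 2) := ⟨Nat.prime_two⟩
  obtain ⟨z, hz, hzo⟩ := exists_orderOf_center hE
  obtain ⟨t, hB⟩ := exists_block hE hs hz hzo
  have hzz : z * z = 1 := by rw [← sq, ← hzo, pow_orderOf_eq_one]
  by_cases ht : t ^ 2 = 1
  · exact ⟨t, z, hB, by rw [hs2, zpow_zero], by rw [ht, zpow_zero]⟩
  have ht' : t ^ 2 = z := by
    have hm := special_pow_mem_center hE.1 t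
    rw [extraspecial_center_eq_zpowers hE hz (fun h => by
      rw [h, orderOf_one] at hzo; exact absurd hzo (by omega))] at hm
    obtain ⟨k, hk⟩ := Subgroup.mem_zpowers_iff.mp hm
    rcases Int.even_or_odd' k with ⟨m, rfl | rfl⟩
    · rw [zpow_mul, zpow_two, hzz, one_zpow] at hk
      exact absurd hk.symm ht
    · rw [zpow_add_one, zpow_mul, zpow_two, hzz, one_zpow, one_mul] at hk
      exact hk.symm
  refine ⟨s * t, z, ⟨hz, hzo, ?_⟩, by rw [hs2, zpow_zero], ?_⟩
  · rw [commutatorElement_mul_right (special_commutatorElement_mem hE.1 s t),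
      commutatorElement_self, one_mul, hB.comm]
  · have hts : ⁅t, s⁆ = z := by
      rw [← commutatorElement_inv, hB.comm]
      exact inv_eq_of_mul_eq_one_right hzz
    rw [mul_pow_of_commutatorElement (by rw [hts]; exact hz), hs2, ht', hts, one_mul,
      Nat.choose_self, pow_one, hzz, zpow_zero]

theorem exists_elemAb_lift {x y z : E} (hE : Cfsg.IsExtraspecial 2 E) (hB : IsBlock 2 x y z)
    (hx2 : x ^ 2 = 1) (A : Subgroup (centralizer (blockGroup hE hB : Set E)))
    (hA : Cfsg.IsElementaryAbelian 2 A) :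
    ∃ A' : Subgroup E, Cfsg.IsElementaryAbelian 2 A' ∧ 2 * Nat.card A ≤ Nat.card A' := by
  haveI : Fact (Nat.Prime 2) := ⟨Nat.prime_two⟩
  set B := A.map (centralizer (blockGroup hE hB : Set E)).subtype with hBdef
  have hxB : ∀ b ∈ B, Commute b x := by
    rintro _ ⟨b, -, rfl⟩
    exact (mem_centralizer_iff.mp b.2 x (mem_blockGroup_x hE hB)).symm
  have hB2 : ∀ b ∈ B, b ^ 2 = 1 := by
    rintro _ ⟨b, hb, rfl⟩
    simpa using congrArg Subtype.val (hA.2 b hb)
  have hBc : ∀ a ∈ B, ∀ b ∈ B, Commute a b := by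
    rintro _ ⟨a, ha, rfl⟩ _ ⟨b, hb, rfl⟩
    exact congrArg Subtype.val (congrArg Subtype.val (hA.1.is_comm.comm ⟨a, ha⟩ ⟨b, hb⟩))
  have hx1 : x ≠ 1 := fun h => (not_mem_center hE hB).1 (h ▸ one_mem _)
  have hxo : orderOf x = 2 := orderOf_eq_prime hx2 hx1
  have hxC : x ∉ (centralizer (blockGroup hE hB : Set E)) := fun h => (not_mem_center hE hB).1
    ((blockGroup_inf_centralizer hE hB).le ⟨mem_blockGroup_x hE hB, h⟩)
  let A' : Subgroup E :=
    { carrier := {g | g ∈ B ∨ g * x ∈ B}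
      one_mem' := Or.inl (one_mem B)
      mul_mem' := by
        rintro a b (ha | ha) (hb | hb)
        · exact Or.inl (mul_mem ha hb)
        · exact Or.inr (by rw [mul_assoc]; exact mul_mem ha hb)
        · refine Or.inr ?_
          have : a * b * x = a * x * b := by rw [mul_assoc, (hxB b hb).eq, ← mul_assoc]
          rw [this]; exact mul_mem ha hb
        · refine Or.inl ?_
          have hbx : Commute (b * x) x := hxB _ hb
          have hb' : Commute b x := mul_right_cancel (b := x) (by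
            rw [hbx.eq, ← mul_assoc] : b * x * x = x * b * x)
          have : a * b = a * x * (b * x) := by
            rw [mul_assoc a x, ← mul_assoc x, ← hb'.eq, mul_assoc b, ← sq, hx2, mul_one]
          rw [this]; exact mul_mem ha hb
      inv_mem' := by
        rintro a (ha | ha)
        · exact Or.inl (inv_mem ha)
        · refine Or.inr ?_
          have hax : Commute (a * x) x := hxB _ ha
          have hxi : x⁻¹ = x := inv_eq_of_mul_eq_one_right (by rw [← sq, hx2])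
          have : a⁻¹ * x = (a * x)⁻¹ := by
            have h' : Commute a x := mul_right_cancel (b := x) (by
              rw [hax.eq, ← mul_assoc] : a * x * x = x * a * x)
            rw [mul_inv_rev, hxi, (h'.inv_left).eq]
          rw [this]; exact inv_mem ha }
  have hA'mem : ∀ g ∈ A', ∃ b ∈ B, g = b ∨ g = b * x := by
    rintro g (h | h)
    · exact ⟨g, h, Or.inl rfl⟩
    · exact ⟨g * x, h, Or.inr (by rw [mul_assoc, ← sq, hx2, mul_one])⟩
  refine ⟨A', ⟨⟨⟨fun ⟨a, ha⟩ ⟨b, hb⟩ => Subtype.ext ?_⟩⟩, fun a ha => ?_⟩, ?_⟩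
  · obtain ⟨a', ha', ea⟩ := hA'mem a ha
    obtain ⟨b', hb', eb⟩ := hA'mem b hb
    show a * b = b * a
    rcases ea with ea | ea <;> rcases eb with eb | eb <;> rw [ea, eb]
    · exact hBc a' ha' b' hb'
    · exact ((hBc a' ha' b' hb').mul_right (hxB a' ha')).eq
    · exact ((hBc a' ha' b' hb').mul_left (hxB b' hb').symm).eq
    · exact ((((hBc a' ha' b' hb').mul_right (hxB a' ha'))).mul_left
        ((hxB b' hb').symm.mul_right (Commute.refl x))).eq
  · obtain ⟨a', ha', ea⟩ := hA'mem a ha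
    rcases ea with ea | ea <;> rw [ea]
    · exact hB2 a' ha'
    · rw [(hxB a' ha').mul_pow, hB2 a' ha', hx2, one_mul]
  · have hlt : B < A' := by
      refine lt_of_le_of_ne (fun b hb => Or.inl hb) fun h => ?_
      have hx : x ∈ B := h ▸ (Or.inr (by rw [← sq, hx2]; exact one_mem B) : x ∈ A')
      obtain ⟨c, -, hc⟩ := hx
      exact hxC ((congrArg (fun g : E => g ∈ centralizer (blockGroup hE hB : Set E)) hc).mp c.2)
    rw [← Subgroup.card_map_of_injective (centralizer (blockGroup hE hB : Set E)).subtype_injective, ← hBdef, mul_comm]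
    obtain ⟨k, hk⟩ := (Subgroup.card_dvd_of_le hlt.le)
    have : k ≠ 1 := by
      rintro rfl
      exact hlt.ne (Subgroup.eq_of_le_of_card_ge hlt.le (by rw [hk, mul_one]))
    have : k ≠ 0 := by
      rintro rfl
      exact (Nat.card_pos (α := A')).ne' (by rw [hk, mul_zero])
    rw [hk]
    exact Nat.mul_le_mul_left _ (by omega)

theorem exists_elemAb_descend {x y z : E} (hE : Cfsg.IsExtraspecial 2 E) (hB : IsBlock 2 x y z)
    {A : Subgroup E} (hA : Cfsg.IsElementaryAbelian 2 A) (hxA : x ∈ A) :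
    ∃ B : Subgroup (centralizer (blockGroup hE hB : Set E)),
      Cfsg.IsElementaryAbelian 2 B ∧ Nat.card A ≤ 2 * Nat.card B := by
  haveI : Fact (Nat.Prime 2) := ⟨Nat.prime_two⟩
  refine ⟨A.subgroupOf (centralizer (blockGroup hE hB : Set E)), ⟨⟨⟨fun a b => Subtype.ext (Subtype.ext (by
      show (a.1.1 : E) * b.1.1 = b.1.1 * a.1.1
      exact congrArg Subtype.val (hA.1.is_comm.comm ⟨a.1.1, a.2⟩ ⟨b.1.1, b.2⟩)))⟩⟩, fun a ha => Subtype.ext (by simpa using hA.2 _ ha)⟩, ?_⟩
  have hle : A ⊓ centralizer ({y} : Set E) ≤ A ⊓ (centralizer (blockGroup hE hB : Set E)) := by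
    refine le_inf inf_le_left ?_
    rw [centralizer_blockGroup hE hB]
    refine le_inf (fun a ha => mem_centralizer_singleton_iff.mpr ?_) inf_le_right
    exact congrArg Subtype.val (hA.1.is_comm.comm ⟨a, ha.1⟩ ⟨x, hxA⟩)
  have hr : (centralizer ({y} : Set E)).relIndex A ≤ 2 := by
    refine le_trans ?_ (extraspecial_index_centralizer_le hE y)
    rw [← relIndex_top_right (centralizer ({y} : Set E))]
    exact relIndex_le_of_le_right le_top (by rw [relIndex_top_right]; exact Subgroup.index_ne_zero_of_finite)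
  have hcard : Nat.card ↥(A ⊓ centralizer ({y} : Set E)) *
      (centralizer ({y} : Set E)).relIndex A = Nat.card A := by
    rw [← inf_relIndex_left A, ← relIndex_bot_left, relIndex_mul_relIndex _ _ _ bot_le inf_le_left,
      relIndex_bot_left]
  calc Nat.card A ≤ Nat.card ↥(A ⊓ centralizer ({y} : Set E)) * 2 :=
        hcard.symm.le.trans (Nat.mul_le_mul_left _ hr)
    _ ≤ Nat.card ↥(A ⊓ (centralizer (blockGroup hE hB : Set E))) * 2 := Nat.mul_le_mul_right _ (card_le_of_le hle)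
    _ = 2 * Nat.card (A.subgroupOf (centralizer (blockGroup hE hB : Set E))) := by
      rw [mul_comm, ← inf_subgroupOf_right, Nat.card_congr
        (subgroupOfEquivOfLe (inf_le_right : A ⊓ (centralizer (blockGroup hE hB : Set E)) ≤ (centralizer (blockGroup hE hB : Set E)))).toEquiv]

theorem eight_le_card (hE : Cfsg.IsExtraspecial 2 E) : 8 ≤ Nat.card E := by
  haveI : Fact (Nat.Prime 2) := ⟨Nat.prime_two⟩
  obtain ⟨x, y, z, hB, -⟩ := exists_two_block hE
  rw [← card_centralizer_blockGroup hE hB]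
  have h : 2 ≤ Nat.card (centralizer (blockGroup hE hB : Set E)) :=
    hE.2.symm.le.trans (card_le_of_le (center_le_centralizer _))
  norm_num
  omega

omit [Finite E] in
theorem center_elemAb (hE : Cfsg.IsExtraspecial 2 E) : Cfsg.IsElementaryAbelian 2 (center E) :=
  ⟨⟨⟨fun a b => Subtype.ext (mem_center_iff.mp b.2 a)⟩⟩, fun a ha => by
    have h := pow_card_eq_one' (x := (⟨a, ha⟩ : center E))
    rw [hE.2] at h
    simpa using congrArg Subtype.val h⟩

/-- There is an elementary abelian subgroup of order at least `√(|E|/2)`. -/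
theorem exists_elemAb_large : ∀ (N : ℕ) (E : Type u) [Group E] [Finite E],
    Cfsg.IsExtraspecial 2 E → Nat.card E = N →
    ∃ A : Subgroup E, Cfsg.IsElementaryAbelian 2 A ∧ Nat.card E ≤ 2 * Nat.card A ^ 2 := by
  haveI : Fact (Nat.Prime 2) := ⟨Nat.prime_two⟩
  intro N
  induction N using Nat.strong_induction_on with
  | _ N ih =>
    intro E _ _ hE hN
    obtain ⟨x, y, z, hB, d⟩ := exists_two_block hE
    have hc := card_centralizer_blockGroup hE hB
    by_cases hC : centralizer (blockGroup hE hB : Set E) = center E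
    · refine ⟨center E, center_elemAb hE, ?_⟩
      rw [← hc, hC, hE.2]
    obtain ⟨hx, -⟩ := d.resolve_right fun h => hC h.2.2
    have hlt : Nat.card (centralizer (blockGroup hE hB : Set E)) < N := by
      rw [← hN, ← hc]
      exact lt_mul_of_one_lt_right Nat.card_pos (by norm_num)
    obtain ⟨A, hA, hA'⟩ := ih _ hlt _ (blockGroup_centralizer_extraspecial hE hB hC) rfl
    obtain ⟨B, hB', hle⟩ := exists_elemAb_lift hE hB (hx.trans (zpow_zero z)) A hA
    refine ⟨B, hB', ?_⟩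
    rw [← hc]
    calc _ ≤ 2 * Nat.card A ^ 2 * 2 ^ 2 := Nat.mul_le_mul_right _ hA'
      _ = 2 * (2 * Nat.card A) ^ 2 := by ring
      _ ≤ _ := Nat.mul_le_mul_left _ (Nat.pow_le_pow_left hle 2)

/-- Plus type: an elementary abelian subgroup of the largest conceivable order exists. -/
def IsPlusTwo (E : Type*) [Group E] : Prop :=
  ∃ A : Subgroup E, Cfsg.IsElementaryAbelian 2 A ∧ 2 * Nat.card E ≤ Nat.card A ^ 2

theorem not_le_center_of_plus (hE : Cfsg.IsExtraspecial 2 E) {A : Subgroup E}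
    (hA : 2 * Nat.card E ≤ Nat.card A ^ 2) : ¬ A ≤ center E := by
  intro hle
  have h2 : Nat.card A ≤ 2 := hE.2 ▸ card_le_of_le hle
  have h4 := Nat.pow_le_pow_left h2 2
  have := eight_le_card hE
  omega

theorem isPlusTwo_of_block {x y z : E} (hE : Cfsg.IsExtraspecial 2 E) (hB : IsBlock 2 x y z)
    (hx : x ^ 2 = z ^ (0 : ℤ))
    (h : centralizer (blockGroup hE hB : Set E) = center E ∨
      IsPlusTwo (centralizer (blockGroup hE hB : Set E))) : IsPlusTwo E := by
  haveI : Fact (Nat.Prime 2) := ⟨Nat.prime_two⟩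
  rw [zpow_zero] at hx
  have hc := card_centralizer_blockGroup hE hB
  rcases h with h | ⟨A, hA, hA'⟩
  · have hZ : Cfsg.IsElementaryAbelian 2 (⊤ : Subgroup (centralizer (blockGroup hE hB : Set E))) :=
      ⟨⟨⟨fun a b => Subtype.ext (Subtype.ext (mem_center_iff.mp (h.le b.1.2) a.1.1))⟩⟩,
        fun a _ => Subtype.ext (by simpa using (center_elemAb hE).2 _ (h.le a.2))⟩
    obtain ⟨B, hB', hle⟩ := exists_elemAb_lift hE hB hx ⊤ hZ
    refine ⟨B, hB', ?_⟩
    rw [← hc]
    rw [Subgroup.card_top] at hle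
    rw [h, hE.2] at hle ⊢
    calc 2 * (2 * 2 ^ 2) = (2 * 2) ^ 2 := by norm_num
      _ ≤ _ := Nat.pow_le_pow_left hle 2
  · obtain ⟨B, hB', hle⟩ := exists_elemAb_lift hE hB hx A hA
    refine ⟨B, hB', ?_⟩
    rw [← hc]
    calc 2 * (_ * 2 ^ 2) ≤ Nat.card A ^ 2 * 2 ^ 2 := by
          rw [← mul_assoc]; exact Nat.mul_le_mul_right _ hA'
      _ = (2 * Nat.card A) ^ 2 := by ring
      _ ≤ _ := Nat.pow_le_pow_left hle 2

/-- Extraspecial `2`-groups of the same order and type are isomorphic. -/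
theorem iso_of_type : ∀ (N : ℕ) (E₁ : Type u) (E₂ : Type v) [Group E₁] [Group E₂]
    [Finite E₁] [Finite E₂], Cfsg.IsExtraspecial 2 E₁ → Cfsg.IsExtraspecial 2 E₂ →
    Nat.card E₁ = N → Nat.card E₂ = N → (IsPlusTwo E₁ ↔ IsPlusTwo E₂) →
    Nonempty (E₁ ≃* E₂) := by
  haveI : Fact (Nat.Prime 2) := ⟨Nat.prime_two⟩
  intro N
  induction N using Nat.strong_induction_on with
  | _ N ih =>
    intro E₁ E₂ _ _ _ _ h₁ h₂ c₁ c₂ htype
    have hcard := c₁.trans c₂.symm
    -- gluing along two dihedral blocks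
    have glue : ∀ (x₁ y₁ z₁ : E₁) (B₁ : IsBlock 2 x₁ y₁ z₁) (x₂ y₂ z₂ : E₂)
        (B₂ : IsBlock 2 x₂ y₂ z₂), x₁ ^ 2 = z₁ ^ (0 : ℤ) → y₁ ^ 2 = z₁ ^ (0 : ℤ) →
        x₂ ^ 2 = z₂ ^ (0 : ℤ) → y₂ ^ 2 = z₂ ^ (0 : ℤ) →
        (centralizer (blockGroup h₁ B₁ : Set E₁) ≠ center E₁ →
          (IsPlusTwo (centralizer (blockGroup h₁ B₁ : Set E₁)) ↔
            IsPlusTwo (centralizer (blockGroup h₂ B₂ : Set E₂)))) →
        Nonempty (E₁ ≃* E₂) := by
      intro x₁ y₁ z₁ B₁ x₂ y₂ z₂ B₂ p₁ q₁ p₂ q₂ ht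
      by_cases hC : centralizer (blockGroup h₁ B₁ : Set E₁) = center E₁
      · exact ⟨(block_iso_of_top h₁ B₁ h₂ B₂ p₁ q₁ p₂ q₂ hcard hC).choose⟩
      have hceq := card_centralizer_eq h₁ B₁ h₂ B₂ hcard
      have hC₂ : centralizer (blockGroup h₂ B₂ : Set E₂) ≠ center E₂ := fun h => hC
        (centralizer_eq_center_of_card h₁ B₁ (by rw [hceq, h, h₂.2]))
      have hlt : Nat.card (centralizer (blockGroup h₁ B₁ : Set E₁)) < N := by
        rw [← c₁, ← card_centralizer_blockGroup h₁ B₁]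
        exact lt_mul_of_one_lt_right Nat.card_pos (by norm_num)
      have eB := blockGroup_centralizer_extraspecial h₂ B₂ hC₂
      obtain ⟨e⟩ := ih _ hlt _ _ (blockGroup_centralizer_extraspecial h₁ B₁ hC) eB rfl hceq.symm
        (ht hC)
      obtain ⟨φ, -⟩ := block_glue h₁ B₁ h₂ B₂ p₁ q₁ p₂ q₂ hcard e (congrArg Subtype.val
        (map_center_generator eB e (z₂ := ⟨z₂, center_le_centralizer _ B₂.mem⟩)
          (mem_center_iff.mpr fun g => Subtype.ext (mem_center_iff.mp B₁.mem g))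
          (mem_center_iff.mpr fun g => Subtype.ext (mem_center_iff.mp B₂.mem g))
          (by rw [← Subgroup.orderOf_coe]; exact B₁.ord)
          (by rw [← Subgroup.orderOf_coe]; exact B₂.ord)))
      exact ⟨φ⟩
    by_cases hplus : IsPlusTwo E₁
    · obtain ⟨A₁, hA₁, hA₁'⟩ := hplus
      obtain ⟨A₂, hA₂, hA₂'⟩ := htype.mp ⟨A₁, hA₁, hA₁'⟩
      obtain ⟨x₁, hx₁, hx₁c⟩ := SetLike.not_le_iff_exists.mp (not_le_center_of_plus h₁ hA₁')
      obtain ⟨x₂, hx₂, hx₂c⟩ := SetLike.not_le_iff_exists.mp (not_le_center_of_plus h₂ hA₂')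
      obtain ⟨y₁, z₁, B₁, p₁, q₁⟩ := exists_dihedral_block h₁ hx₁c (hA₁.2 _ hx₁)
      obtain ⟨y₂, z₂, B₂, p₂, q₂⟩ := exists_dihedral_block h₂ hx₂c (hA₂.2 _ hx₂)
      refine glue _ _ _ B₁ _ _ _ B₂ p₁ q₁ p₂ q₂ fun _ => iff_of_true ?_ ?_
      · obtain ⟨B, hB, hle⟩ := exists_elemAb_descend h₁ B₁ hA₁ hx₁
        refine ⟨B, hB, ?_⟩
        have := hA₁'.trans (Nat.pow_le_pow_left hle 2)
        rw [← card_centralizer_blockGroup h₁ B₁, mul_pow] at this
        omega
      · obtain ⟨B, hB, hle⟩ := exists_elemAb_descend h₂ B₂ hA₂ hx₂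
        refine ⟨B, hB, ?_⟩
        have := hA₂'.trans (Nat.pow_le_pow_left hle 2)
        rw [← card_centralizer_blockGroup h₂ B₂, mul_pow] at this
        omega
    have hplus₂ : ¬ IsPlusTwo E₂ := fun h => hplus (htype.mpr h)
    obtain ⟨x₁, y₁, z₁, B₁, d₁⟩ := exists_two_block h₁
    obtain ⟨x₂, y₂, z₂, B₂, d₂⟩ := exists_two_block h₂
    have hceq := card_centralizer_eq h₁ B₁ h₂ B₂ hcard
    rcases d₁ with ⟨p₁, q₁⟩ | ⟨p₁, q₁, hC₁⟩ <;> rcases d₂ with ⟨p₂, q₂⟩ | ⟨p₂, q₂, hC₂⟩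
    · exact glue _ _ _ B₁ _ _ _ B₂ p₁ q₁ p₂ q₂ fun _ => iff_of_false
        (fun h => hplus (isPlusTwo_of_block h₁ B₁ p₁ (Or.inr h)))
        (fun h => hplus₂ (isPlusTwo_of_block h₂ B₂ p₂ (Or.inr h)))
    · exact absurd (isPlusTwo_of_block h₁ B₁ p₁ (Or.inl
        (centralizer_eq_center_of_card h₁ B₁ (by rw [hceq, hC₂, h₂.2])))) hplus
    · exact absurd (isPlusTwo_of_block h₂ B₂ p₂ (Or.inl
        (centralizer_eq_center_of_card h₂ B₂ (by rw [← hceq, hC₁, h₁.2])))) hplus₂
    · exact ⟨(block_iso_of_top h₁ B₁ h₂ B₂ p₁ q₁ p₂ q₂ hcard hC₁).choose⟩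

end Cfsg.Agent.PGroup
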